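import Mathlib

/-! Automorphisms of the forgetful functor on finite continuous G-sets. -/

set_option autoImplicit false

universe u

open CategoryTheory CategoryTheory.PreGaloisCategory
open scoped FintypeCatDiscrete

namespace Groth.Agent.ProfAct

variable {G : Type u} [Group G] [TopologicalSpace G] [IsTopologicalGroup G]

abbrev fgt (G : Type u) [Group G] [TopologicalSpace G] := forget₂ (ContAction FintypeCat.{u} G) FintypeCat.{u}

theorem rho_mul (X : Action FintypeCat.{u} G) (g h : G) (x : X.V) :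
    (X.ρ (g * h)).hom x = (X.ρ g).hom ((X.ρ h).hom x) := by
  rw [map_mul]; rfl

theorem rho_one (X : Action FintypeCat.{u} G) (x : X.V) : (X.ρ 1).hom x = x := by
  rw [map_one]; rfl

noncomputable def ι : G →* Aut (fgt G) where
  toFun g := NatIso.ofComponents (fun X => FintypeCat.equivEquivIso
    { toFun := fun x => (X.obj.ρ g).hom x
      invFun := fun x => (X.obj.ρ g⁻¹).hom x
      left_inv := fun x => (rho_mul X.obj _ _ x).symm.trans (by rw [inv_mul_cancel]; exact rho_one _ _)
      right_inv := fun x => (rho_mul X.obj _ _ x).symm.trans (by rw [mul_inv_cancel]; exact rho_one _ _) })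
    (fun f => FintypeCat.hom_ext _ _ fun x => (ConcreteCategory.congr_hom (f.hom.comm g) x).symm)
  map_one' := Iso.ext (NatTrans.ext (funext fun X => FintypeCat.hom_ext _ _ fun x => rho_one X.obj x))
  map_mul' g h := Iso.ext (NatTrans.ext (funext fun X => FintypeCat.hom_ext _ _ fun x => rho_mul X.obj g h x))

theorem ι_app (g : G) (X : ContAction FintypeCat.{u} G) (x : X.obj.V) :
    (ι g).hom.app X x = (X.obj.ρ g).hom x := rfl

theorem isOpen_fix (X : ContAction FintypeCat.{u} G) (x : X.obj.V) : IsOpen {g : G | (X.obj.ρ g).hom x = x} := by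
  haveI : DiscreteTopology ((CategoryTheory.forget₂ (Action FintypeCat.{u} G) TopCat).obj X.obj) := ⟨rfl⟩
  exact continuousSMul_iff_stabilizer_isOpen.mp X.2 x

/-- `Q` as a finite continuous `G`-set through `π` -/
noncomputable def obj (Q : Type u) [Group Q] [Finite Q] (π : G →* Q) (hπ : IsOpen (π.ker : Set G)) :
    ContAction FintypeCat.{u} G :=
  letI : MulAction G Q := MulAction.compHom Q π
  ⟨Action.FintypeCat.ofMulAction G (FintypeCat.of Q), by
    haveI : DiscreteTopology ((CategoryTheory.forget₂ (Action FintypeCat.{u} G) TopCat).obj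
      (Action.FintypeCat.ofMulAction G (FintypeCat.of Q))) := ⟨rfl⟩
    refine continuousSMul_iff_stabilizer_isOpen.mpr fun q => ?_
    convert hπ using 1
    ext g
    show π g * (show Q from q) = (show Q from q) ↔ g ∈ π.ker
    rw [MonoidHom.mem_ker, mul_eq_right]⟩

theorem obj_rho (Q : Type u) [Group Q] [Finite Q] (π : G →* Q) (hπ : IsOpen (π.ker : Set G)) (g : G) (q : Q) :
    ((obj Q π hπ).obj.ρ g).hom q = π g * q := rfl

/-- evaluation at `1` -/
noncomputable def ev (Q : Type u) [Group Q] [Finite Q] (π : G →* Q) (hπ : IsOpen (π.ker : Set G))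
    (σ : Aut (fgt G)) : Q := σ.hom.app (obj Q π hπ) (1 : Q)

theorem app_eq_mul (Q : Type u) [Group Q] [Finite Q] (π : G →* Q) (hπ : IsOpen (π.ker : Set G))
    (σ : Aut (fgt G)) (q : Q) : (σ.hom.app (obj Q π hπ) q : Q) = ev Q π hπ σ * q := by
  let r : obj Q π hπ ⟶ obj Q π hπ := ObjectProperty.homMk
    { hom := FintypeCat.homMk fun y : Q => y * q
      comm := fun g => FintypeCat.hom_ext _ _ fun y => mul_assoc (π g) y q }
  have h := NatTrans.naturality_apply σ.hom r (1 : Q)
  have e : (fgt G).map r (1 : Q) = (q : Q) := one_mul q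
  rw [e] at h
  exact h

noncomputable def evHom (Q : Type u) [Group Q] [Finite Q] (π : G →* Q) (hπ : IsOpen (π.ker : Set G)) :
    Aut (fgt G) →* Q :=
  MonoidHom.mk' (ev Q π hπ) fun σ τ => app_eq_mul Q π hπ σ (ev Q π hπ τ)

theorem continuous_app (X : ContAction FintypeCat.{u} G) (x : X.obj.V) :
    Continuous fun σ : Aut (fgt G) => σ.hom.app X x :=
  (continuous_of_discreteTopology (f := fun a : Aut ((fgt G).obj X) => a.hom x)).comp
    ((continuous_apply X).comp (autEmbedding_isClosedEmbedding (fgt G)).continuous)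

theorem continuous_ι : Continuous (ι (G := G)) := by
  rw [Topology.IsInducing.continuous_iff (autEmbedding_isClosedEmbedding (fgt G)).isInducing, continuous_pi_iff]
  intro X
  refine continuous_discrete_rng.2 fun a => isOpen_iff_forall_mem_open.2 fun g hg =>
    ⟨(fun h => g⁻¹ * h) ⁻¹' (⋂ x : X.obj.V, {k | (X.obj.ρ k).hom x = x}), fun h hh => ?_,
      (isOpen_iInter_of_finite fun x => isOpen_fix X x).preimage (by fun_prop), ?_⟩
  · have hh' : ∀ x, (X.obj.ρ (g⁻¹ * h)).hom x = x := fun x => Set.mem_iInter.1 hh x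
    refine Eq.trans ?_ (hg : _ = a)
    refine Iso.ext (FintypeCat.hom_ext _ _ fun x => ?_)
    show (X.obj.ρ h).hom x = (X.obj.ρ g).hom x
    conv_lhs => rw [← mul_inv_cancel_left g h, rho_mul, hh']
  · refine Set.mem_iInter.2 fun x => ?_
    show (X.obj.ρ (g⁻¹ * g)).hom x = x
    rw [inv_mul_cancel, rho_one]

/-- an automorphism agrees on each object with an element of `G` lifting its value on a fine quotient -/
theorem app_eq_of_ev (Q : Type u) [Group Q] [Finite Q] (π : G →* Q) (hπ : IsOpen (π.ker : Set G))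
    (hs : Function.Surjective π) (X : ContAction FintypeCat.{u} G) (x : X.obj.V)
    (hle : ∀ k ∈ π.ker, (X.obj.ρ k).hom x = x) (σ : Aut (fgt G)) (g : G) (hg : π g = ev Q π hπ σ) :
    σ.hom.app X x = (X.obj.ρ g).hom x := by
  have key : ∀ a b : G, π a = π b → (X.obj.ρ a).hom x = (X.obj.ρ b).hom x := fun a b h => by
    conv_lhs => rw [← mul_inv_cancel_left b a, rho_mul,
      hle (b⁻¹ * a) (MonoidHom.mem_ker.2 (by rw [map_mul, map_inv, h, inv_mul_cancel]))]
  let f : obj Q π hπ ⟶ X := ObjectProperty.homMk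
    { hom := FintypeCat.homMk fun q : Q => (X.obj.ρ (Function.surjInv hs q)).hom x
      comm := fun h => FintypeCat.hom_ext _ _ fun (q : Q) => by
        show (X.obj.ρ (Function.surjInv hs (π h * q))).hom x = (X.obj.ρ h).hom ((X.obj.ρ (Function.surjInv hs q)).hom x)
        rw [← rho_mul]
        exact key _ _ (by rw [Function.surjInv_eq hs, map_mul, Function.surjInv_eq hs]) }
  have hf : ∀ a : G, (fgt G).map f (π a) = (X.obj.ρ a).hom x := fun a => key _ _ (Function.surjInv_eq hs (π a))
  have e1 : (fgt G).map f (1 : Q) = x := by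
    have := hf 1
    rw [map_one, rho_one] at this
    exact this
  have h := NatTrans.naturality_apply σ.hom f (1 : Q)
  rw [e1] at h
  refine h.trans ?_
  show (fgt G).map f (ev Q π hπ σ) = _
  rw [← hg, hf]

theorem denseRange_ι : DenseRange (ι (G := G)) := by
  intro σ
  rw [mem_closure_iff]
  intro U hU hσ
  obtain ⟨V, hV, rfl⟩ := hU
  obtain ⟨I, t, ht, hsub⟩ := isOpen_pi_iff.1 hV _ hσ
  let fixAll : Subgroup G :=
    { carrier := {g | ∀ X ∈ I, ∀ x : X.obj.V, (X.obj.ρ g).hom x = x}
      one_mem' := fun X _ x => rho_one _ x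
      mul_mem' := fun {a b} ha hb X hX x => by rw [rho_mul, hb X hX, ha X hX]
      inv_mem' := fun {a} ha X hX x => by
        conv_lhs => rw [← ha X hX x, ← rho_mul, inv_mul_cancel, rho_one] }
  haveI hn : fixAll.Normal := ⟨fun k hk g X hX x => by
    rw [rho_mul, rho_mul, hk X hX, ← rho_mul, mul_inv_cancel, rho_one]⟩
  have hopen : IsOpen (fixAll : Set G) := by
    have : (fixAll : Set G) = ⋂ X ∈ I, ⋂ x : X.obj.V, {g | (X.obj.ρ g).hom x = x} := by
      ext g; simp only [Set.mem_iInter]; exact Iff.rfl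
    rw [this]
    exact isOpen_biInter_finset fun X _ => isOpen_iInter_of_finite fun x => isOpen_fix X x
  haveI : fixAll.FiniteIndex := by
    let q : G → ∀ p : (X : {X // X ∈ I}) × X.1.obj.V, p.1.1.obj.V := fun g p => (p.1.1.obj.ρ g).hom p.2
    let q' : G ⧸ fixAll → _ := Quotient.lift q fun a b hab => funext fun p => by
      have h := (QuotientGroup.leftRel_apply.1 hab) p.1.1 p.1.2 p.2
      show (p.1.1.obj.ρ a).hom p.2 = (p.1.1.obj.ρ b).hom p.2
      conv_rhs => rw [← mul_inv_cancel_left a b, rho_mul, h]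
    haveI : Finite (G ⧸ fixAll) := Finite.of_injective q' (by
      rintro ⟨a⟩ ⟨b⟩ h
      refine Quotient.sound (QuotientGroup.leftRel_apply.2 fun X hX x => ?_)
      have h' : (X.obj.ρ a).hom x = (X.obj.ρ b).hom x := congrFun h ⟨⟨X, hX⟩, x⟩
      rw [rho_mul, ← h', ← rho_mul, inv_mul_cancel, rho_one])
    exact Subgroup.finiteIndex_of_finite_quotient
  have hπ : IsOpen ((QuotientGroup.mk' fixAll).ker : Set G) := by rw [QuotientGroup.ker_mk']; exact hopen
  obtain ⟨g, hg⟩ := QuotientGroup.mk_surjective (ev _ (QuotientGroup.mk' fixAll) hπ σ)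
  refine ⟨ι g, hsub fun X hX => ?_, g, rfl⟩
  have heq : autEmbedding (fgt G) (ι g) X = autEmbedding (fgt G) σ X := Iso.ext (FintypeCat.hom_ext _ _ fun x =>
    (app_eq_of_ev _ _ hπ (QuotientGroup.mk'_surjective _) X x
      (fun k hk => (show k ∈ fixAll by rwa [QuotientGroup.ker_mk'] at hk) X hX x) σ g hg).symm)
  show autEmbedding (fgt G) (ι g) X ∈ t X
  rw [heq]
  exact (ht X hX).2

theorem existsUnique_factor (Q : Type u) [Group Q] [Finite Q] [TopologicalSpace Q] [DiscreteTopology Q]
    (π : G →* Q) (hπc : Continuous π) :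
    ∃! ψ : Aut (fgt G) →* Q, Continuous ψ ∧ ψ.comp ι = π := by
  have hπ : IsOpen (π.ker : Set G) := (isOpen_discrete {(1 : Q)}).preimage hπc
  have h1 : (evHom Q π hπ).comp ι = π := MonoidHom.ext fun g => (obj_rho Q π hπ g (1 : Q)).trans (mul_one (π g))
  have hcont : Continuous (evHom Q π hπ) := Continuous.comp
    (X := Aut (fgt G)) (Y := ((fgt G).obj (obj Q π hπ)).obj) (Z := Q) (g := fun q => (q : Q))
    continuous_of_discreteTopology (continuous_app (obj Q π hπ) (1 : Q))
  refine ⟨evHom Q π hπ, ⟨hcont, h1⟩, fun ψ hψ => ?_⟩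
  refine DFunLike.coe_injective (denseRange_ι.equalizer hψ.1 ?_ ?_)
  · exact hcont
  · funext g
    exact (DFunLike.congr_fun hψ.2 g).trans (DFunLike.congr_fun h1 g).symm

end Groth.Agent.ProfAct
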