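import Groth.Agent.ProfAct.Cont

/-! The profinite completion of a discrete group as automorphisms of the forgetful functor. -/

set_option autoImplicit false

universe u

open CategoryTheory CategoryTheory.PreGaloisCategory ProfiniteGrp
open scoped FintypeCatDiscrete

namespace Groth.Agent.ProfAct

variable (G : Type u) [Group G]

theorem rho_mulD {G : Type u} [Group G] (X : Action FintypeCat.{u} G) (g h : G) (x : X.V) :
    (X.ρ (g * h)).hom x = (X.ρ g).hom ((X.ρ h).hom x) := by
  rw [map_mul]; rfl

theorem rho_oneD {G : Type u} [Group G] (X : Action FintypeCat.{u} G) (x : X.V) : (X.ρ 1).hom x = x := by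
  rw [map_one]; rfl

noncomputable def ιD : G →* Aut (Action.forget FintypeCat.{u} G) where
  toFun g := NatIso.ofComponents (fun X => FintypeCat.equivEquivIso
    { toFun := fun x => (X.ρ g).hom x
      invFun := fun x => (X.ρ g⁻¹).hom x
      left_inv := fun x => (rho_mulD X _ _ x).symm.trans (by rw [inv_mul_cancel]; exact rho_oneD _ _)
      right_inv := fun x => (rho_mulD X _ _ x).symm.trans (by rw [mul_inv_cancel]; exact rho_oneD _ _) })
    (fun f => FintypeCat.hom_ext _ _ fun x => (ConcreteCategory.congr_hom (f.comm g) x).symm)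
  map_one' := Iso.ext (NatTrans.ext (funext fun X => FintypeCat.hom_ext _ _ fun x => rho_oneD X x))
  map_mul' g h := Iso.ext (NatTrans.ext (funext fun X => FintypeCat.hom_ext _ _ fun x => rho_mulD X g h x))

variable {G}

noncomputable def quotObj (H : FiniteIndexNormalSubgroup G) : Action FintypeCat.{u} G :=
  Action.FintypeCat.ofMulAction G (FintypeCat.of (G ⧸ H.toSubgroup))

theorem quotObj_rho (H : FiniteIndexNormalSubgroup G) (g : G) (q : G ⧸ H.toSubgroup) :
    ((quotObj H).ρ g).hom q = (g : G ⧸ H.toSubgroup) * q := by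
  obtain ⟨x, rfl⟩ := QuotientGroup.mk_surjective q
  rfl

noncomputable def evD (H : FiniteIndexNormalSubgroup G) (σ : Aut (Action.forget FintypeCat.{u} G)) :
    G ⧸ H.toSubgroup :=
  σ.hom.app (quotObj H) (1 : G ⧸ H.toSubgroup)

theorem app_eq_mulD (H : FiniteIndexNormalSubgroup G) (σ : Aut (Action.forget FintypeCat.{u} G))
    (q : G ⧸ H.toSubgroup) : (σ.hom.app (quotObj H) q : G ⧸ H.toSubgroup) = evD H σ * q := by
  let r : quotObj H ⟶ quotObj H :=
    { hom := FintypeCat.homMk fun y : G ⧸ H.toSubgroup => y * q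
      comm := fun g => FintypeCat.hom_ext _ _ fun (y : G ⧸ H.toSubgroup) => by
        show (show G ⧸ H.toSubgroup from ((quotObj H).ρ g).hom y) * q = ((quotObj H).ρ g).hom (y * q)
        rw [quotObj_rho, quotObj_rho, mul_assoc] }
  have h := NatTrans.naturality_apply σ.hom r (1 : G ⧸ H.toSubgroup)
  have e : (Action.forget FintypeCat.{u} G).map r (1 : G ⧸ H.toSubgroup) = (q : G ⧸ H.toSubgroup) := one_mul q
  rw [e] at h
  exact h

theorem app_eq_of_evD (H : FiniteIndexNormalSubgroup G) (X : Action FintypeCat.{u} G) (x : X.V)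
    (hle : ∀ k ∈ H.toSubgroup, (X.ρ k).hom x = x) (σ : Aut (Action.forget FintypeCat.{u} G)) (g : G)
    (hg : (g : G ⧸ H.toSubgroup) = evD H σ) : σ.hom.app X x = (X.ρ g).hom x := by
  have key : ∀ a b : G, (a : G ⧸ H.toSubgroup) = b → (X.ρ a).hom x = (X.ρ b).hom x := fun a b h => by
    conv_lhs => rw [← mul_inv_cancel_left b a, rho_mulD, hle (b⁻¹ * a) (QuotientGroup.eq.1 h.symm)]
  let f : quotObj H ⟶ X :=
    { hom := FintypeCat.homMk fun q : G ⧸ H.toSubgroup => (X.ρ (Quotient.out q)).hom x
      comm := fun h => FintypeCat.hom_ext _ _ fun (q : G ⧸ H.toSubgroup) => by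
        show (X.ρ (Quotient.out (((quotObj H).ρ h).hom q : G ⧸ H.toSubgroup))).hom x =
          (X.ρ h).hom ((X.ρ (Quotient.out q)).hom x)
        rw [← rho_mulD]
        exact key _ _ (by rw [QuotientGroup.out_eq', quotObj_rho, QuotientGroup.mk_mul, QuotientGroup.out_eq']) }
  have hf : ∀ a : G, (Action.forget FintypeCat.{u} G).map f (a : G ⧸ H.toSubgroup) = (X.ρ a).hom x :=
    fun a => key _ _ (QuotientGroup.out_eq' _)
  have e1 : (Action.forget FintypeCat.{u} G).map f (1 : G ⧸ H.toSubgroup) = x := (hf 1).trans (rho_oneD X x)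
  have h := NatTrans.naturality_apply σ.hom f (1 : G ⧸ H.toSubgroup)
  rw [e1] at h
  refine h.trans ?_
  show (Action.forget FintypeCat.{u} G).map f (evD H σ) = _
  rw [← hg, hf]

/-- the inverse map -/
noncomputable def toCompletion :
    Aut (Action.forget FintypeCat.{u} G) →* ProfiniteCompletion.completion (GrpCat.of G) :=
  MonoidHom.mk' (fun σ => ⟨fun H => evD (G := G) H σ, fun {H K} f => by
    obtain ⟨g, hg⟩ := QuotientGroup.mk_surjective (evD (G := G) H σ)
    have h := app_eq_of_evD (G := G) H (quotObj K) (1 : G ⧸ K.toSubgroup) (fun k hk => by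
      refine (quotObj_rho K k (1 : G ⧸ K.toSubgroup)).trans ?_
      rw [mul_one]
      exact (QuotientGroup.eq_one_iff k).2 (f.le hk)) σ g hg
    show QuotientGroup.map _ _ (MonoidHom.id G) f.le (evD (G := G) H σ) = evD (G := G) K σ
    refine Eq.trans ?_ (h.trans ((quotObj_rho (G := G) K g 1).trans (mul_one (g : G ⧸ K.toSubgroup)))).symm
    rw [← hg]
    rfl⟩) fun σ τ => Subtype.ext (funext fun H => app_eq_mulD (G := G) H σ (evD (G := G) H τ))

theorem toCompletion_ι (g : G) :
    toCompletion (ιD G g) = ProfiniteCompletion.etaFn (GrpCat.of G) g :=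
  Subtype.ext (funext fun H => (quotObj_rho (G := G) H g 1).trans (mul_one ((g : G) : G ⧸ H.toSubgroup)))

theorem continuous_toCompletion : Continuous (toCompletion (G := G)) := by
  refine Continuous.subtype_mk (continuous_pi fun H => ?_) _
  exact Continuous.comp (X := Aut (Action.forget FintypeCat.{u} G))
    (Y := ((Action.forget FintypeCat.{u} G).obj (quotObj H)).obj) (g := fun q => (q : G ⧸ H.toSubgroup))
    continuous_of_discreteTopology
    ((continuous_of_discreteTopology (f := fun a : Aut ((Action.forget FintypeCat.{u} G).obj (quotObj H)) =>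
        a.hom (1 : G ⧸ H.toSubgroup))).comp
      ((continuous_apply (quotObj H)).comp (autEmbedding_isClosedEmbedding _).continuous))

theorem bijective_toCompletion : Function.Bijective (toCompletion (G := G)) := by
  refine ⟨(injective_iff_map_eq_one _).2 fun σ hσ => ?_, ?_⟩
  · refine Iso.ext (NatTrans.ext (funext fun X => FintypeCat.hom_ext _ _ fun x => ?_))
    letI act : MulAction G X.V :=
      { smul := fun g y => (X.ρ g).hom y
        one_smul := rho_oneD X
        mul_smul := rho_mulD X }
    let p := MulAction.toPermHom G X.V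
    haveI : Finite (Equiv.Perm X.V) := inferInstance
    haveI : p.ker.FiniteIndex := inferInstance
    let H : FiniteIndexNormalSubgroup G := FiniteIndexNormalSubgroup.ofSubgroup p.ker
    have he : evD H σ = 1 := congrFun (congrArg Subtype.val hσ) H
    exact (app_eq_of_evD H X x (fun k hk => Equiv.congr_fun (MonoidHom.mem_ker.1 hk) x) σ 1
      (he.symm ▸ rfl)).trans (rho_oneD X x)
  · intro c
    have hcl : IsClosed (Set.range (toCompletion (G := G))) := (isCompact_range continuous_toCompletion).isClosed
    have hsub : closure (Set.range (ProfiniteCompletion.etaFn (GrpCat.of G))) ⊆ Set.range (toCompletion (G := G)) :=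
      hcl.closure_subset_iff.2 (Set.range_subset_iff.2 fun g => ⟨_, toCompletion_ι g⟩)
    exact hsub (ProfiniteCompletion.denseRange (GrpCat.of G) c)

theorem exists_completionEquiv :
    ∃ φ : (ProfiniteCompletion.completion (GrpCat.of G)) ≃ₜ* Aut (Action.forget FintypeCat.{u} G),
      ∀ (g : G) (X : Action FintypeCat.{u} G) (x : X.V),
        (φ (ProfiniteCompletion.etaFn (GrpCat.of G) g)).hom.app X x = (X.ρ g).hom x := by
  let e := MulEquiv.ofBijective (toCompletion (G := G)) bijective_toCompletion
  let e' : Aut (Action.forget FintypeCat.{u} G) ≃ₜ* ProfiniteCompletion.completion (GrpCat.of G) :=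
    { e with
      continuous_toFun := continuous_toCompletion
      continuous_invFun := continuous_toCompletion.continuous_symm_of_equiv_compact_to_t2 (f := e.toEquiv) }
  refine ⟨e'.symm, fun g X x => ?_⟩
  have : e'.symm (ProfiniteCompletion.etaFn (GrpCat.of G) g) = ιD G g :=
    e'.toMulEquiv.symm_apply_eq.2 (toCompletion_ι g).symm
  rw [this]
  rfl

end Groth.Agent.ProfAct
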